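import Groth.Agent.AWN93.Normalization

set_option autoImplicit false
universe u

open CategoryTheory CategoryTheory.Limits AlgebraicGeometry TopologicalSpace Opposite
open AlgebraicGeometry.Scheme.AffineZariskiSite

namespace Groth.Agent.AWN93

theorem isLocalization_away {A A' W₀ W' : Type u} [CommRing A] [CommRing A'] [CommRing W₀]
    [CommRing W'] (f : A) [Algebra A A'] [IsLocalization.Away f A'] (φ : A →+* W₀) (φ' : A' →+* W')
    (hφ : UH φ) (hW : HTop.IsAWNRing W₀) (hφ' : UH φ') (hW' : HTop.IsAWNRing W') (χ : W₀ →+* W')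
    (hχ : χ.comp φ = φ'.comp (algebraMap A A')) :
    letI := χ.toAlgebra
    IsLocalization.Away (φ f) W' := by
  let : Algebra W₀ W' := χ.toAlgebra
  let M := Localization.Away (φ f)
  have hu : IsUnit (((algebraMap W₀ M).comp φ) f) := IsLocalization.Away.algebraMap_isUnit (φ f)
  let ψ : A' →+* M := IsLocalization.Away.lift (S := A') f hu
  have hψc : ψ.comp (algebraMap A A') = (algebraMap W₀ M).comp φ :=
    IsLocalization.Away.lift_comp f hu
  have hu' : IsUnit (χ (φ f)) := by
    rw [show χ (φ f) = φ' (algebraMap A A' f) from congr($hχ f)]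
    exact (IsLocalization.Away.algebraMap_isUnit f).map φ'
  let η : M →+* W' := IsLocalization.Away.lift (S := M) (φ f) hu'
  have hηc : η.comp (algebraMap W₀ M) = χ := IsLocalization.Away.lift_comp (φ f) hu'
  have hη : η.comp ψ = φ' := IsLocalization.ringHom_ext (Submonoid.powers f) (by
    rw [RingHom.comp_assoc, hψc, ← RingHom.comp_assoc, hηc, hχ])
  have := isReduced_of_seminormal hW'.1
  have hψ : UH ψ := by
    let : Algebra A' M := ψ.toAlgebra
    let : Algebra A W₀ := φ.toAlgebra
    obtain ⟨hi, hri, hker⟩ := UH57.isUnivHomeo_iff.1 hφ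
    have hall : ∀ m : M, UH57.InCl True A' m := by
      intro m
      obtain ⟨n, w, hw⟩ := IsLocalization.Away.surj (φ f) m
      obtain ⟨v, hv⟩ := ((IsLocalization.Away.algebraMap_isUnit (S := A') f).pow n).exists_right_inv
      have hm : m = algebraMap W₀ M w * ψ v := by
        have h1 := congrArg ψ hv
        rw [map_one, map_mul, map_pow, show ψ (algebraMap A A' f) = algebraMap W₀ M (φ f) from
          congr($hψc f)] at h1
        rw [← hw, mul_assoc, h1, mul_one]
      rw [hm]
      exact .mul (InCl.comp (algebraMap A A') (algebraMap W₀ M) hψc.symm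
        (UH57.all_of_ri (.inl trivial) hi hri w)) (.alg v)
    refine UH57.isUnivHomeo_iff.2 ⟨UH57.integral_of_all hall, UH57.ri_of_all hall, fun x hx => ?_⟩
    obtain ⟨n, a, ha⟩ := IsLocalization.Away.surj f x
    have h0 : algebraMap W₀ M (φ a) = 0 := by
      rw [← show ψ (algebraMap A A' a) = algebraMap W₀ M (φ a) from congr($hψc a), ← ha, map_mul,
        show ψ x = 0 from hx, zero_mul]
    rw [← map_zero (algebraMap W₀ M)] at h0
    obtain ⟨N, hN⟩ := exists_pow_mul_eq_of_map_eq (φ f) h0
    rw [← map_pow, ← map_mul, mul_zero] at hN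
    have hnil : IsNilpotent (f ^ N * a) := mem_nilradical.1 (hker hN)
    have h2 := mem_nilradical.2 (hnil.map (algebraMap A A'))
    rw [map_mul, map_pow, ← ha] at h2
    obtain ⟨v, hv⟩ :=
      ((IsLocalization.Away.algebraMap_isUnit (S := A') f).pow (N + n)).exists_right_inv
    have h3 := (nilradical A').mul_mem_right v h2
    rwa [mul_comm x, ← mul_assoc (algebraMap A A' f ^ N), ← pow_add, mul_right_comm, hv,
      one_mul] at h3
  have hb := (UH.of_comp hψ hφ' hη).bijective (awn_away (φ f) hW)
  exact IsLocalization.isLocalization_of_algEquiv (Submonoid.powers (φ f))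
    (AlgEquiv.ofBijective { η with commutes' := fun w => congr($hηc w) } hb)

variable (X : Scheme.{u})

theorem exists_res {U V : X.AffineZariskiSiteᵒᵖ} (i : U ⟶ V) :
    ∃! χ : W Γ(X, U.unop.toOpens) →+* W Γ(X, V.unop.toOpens), χ.comp (algebraMap Γ(X, U.unop.toOpens) _) =
      (algebraMap Γ(X, V.unop.toOpens) _).comp (X.presheaf.map ((toOpensFunctor X).op.map i)).hom :=
  existsUnique_hom_W (uh_W _) _

/-- the presheaf of absolute weak normalizations -/
noncomputable def diagram : X.AffineZariskiSiteᵒᵖ ⥤ CommRingCat.{u} where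
  obj U := .of (W Γ(X, U.unop.toOpens))
  map i := CommRingCat.ofHom (exists_res X i).choose
  map_id U := CommRingCat.hom_ext ((exists_res X (𝟙 U)).choose_spec.2 _ (by simp; rfl)).symm
  map_comp {U V V'} i j := CommRingCat.hom_ext ((exists_res X (i ≫ j)).choose_spec.2 _
    (RingHom.ext fun a => by
      have h1 := RingHom.congr_fun (exists_res X i).choose_spec.1 a
      have h2 := RingHom.congr_fun (exists_res X j).choose_spec.1
        ((X.presheaf.map ((toOpensFunctor X).op.map i)).hom a)
      show (exists_res X j).choose ((exists_res X i).choose _) = _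
      simp only [RingHom.comp_apply] at h1 h2
      erw [h1, h2]
      simp only [RingHom.comp_apply, Functor.map_comp, CommRingCat.hom_comp]
      rfl)).symm

/-- the structure map of `diagram` -/
noncomputable def diagramMap : (toOpensFunctor X).op ⋙ X.presheaf ⟶ diagram X where
  app U := CommRingCat.ofHom (algebraMap Γ(X, U.unop.toOpens) (W Γ(X, U.unop.toOpens)))
  naturality U V i := CommRingCat.hom_ext (exists_res X i).choose_spec.1.symm

theorem coequifibered : (diagramMap X).Coequifibered := by
  refine coequifibered_iff_forall_isLocalizationAway.mpr fun U r => ?_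
  let : Algebra Γ(X, U.1) Γ(X, X.basicOpen r) :=
    (X.presheaf.map (homOfLE (X.basicOpen_le r)).op).hom.toAlgebra
  have : IsLocalization.Away r Γ(X, X.basicOpen r) := U.2.isLocalization_basicOpen r
  exact isLocalization_away r (algebraMap Γ(X, U.1) (W Γ(X, U.1)))
    (algebraMap Γ(X, X.basicOpen r) (W Γ(X, X.basicOpen r))) (uh_W _) (awn_W _) (uh_W _) (awn_W _)
    _ (exists_res X (homOfLE (U.basicOpen_le r)).op).choose_spec.1

/-- Every scheme has an absolute weak normalization. -/
theorem exists_awn : ∃ (X' : Scheme.{u}) (ν : X' ⟶ X), FlatMor.IsUnivHomeo ν ∧ HTop.IsAWN X' := by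
  let d := relativeGluingData (coequifibered X)
  refine ⟨d.glued, d.toBase, ?_, ?_⟩
  · have key : ∀ U : X.AffineZariskiSite, FlatMor.IsUnivHomeo (d.natTrans.app U) := fun U => by
      have hU : IsAffineOpen U.toOpens := U.2
      show FlatMor.IsUnivHomeo (Spec.map ((diagramMap X).app (op U)) ≫ hU.isoSpec.inv)
      have : IsIso hU.isoSpec.inv := Iso.isIso_inv hU.isoSpec
      exact MorphismProperty.RespectsIso.postcomp FlatMor.IsUnivHomeo.{u} hU.isoSpec.inv
        (Spec.map ((diagramMap X).app (op U))) (uh_W _)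
    have loc : ∀ (P : MorphismProperty Scheme.{u}), IsZariskiLocalAtTarget P →
        (∀ U, P (d.natTrans.app U)) → P d.toBase := fun P _ h =>
      (IsZariskiLocalAtTarget.iff_of_openCover (P := P) (directedCover X)).2 fun U => by
        have hpb := (d.isPullback_natTrans_ι_toBase U).flip
        show P (pullback.snd d.toBase ((directedCover X).f U))
        have := (MorphismProperty.cancel_left_of_respectsIso P hpb.isoPullback.inv _).2 (h U)
        exact hpb.isoPullback_inv_snd ▸ this
    rw [UH57.isUnivHomeo_iff']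
    exact ⟨loc @UniversallyClosed inferInstance fun U => ((UH57.isUnivHomeo_iff' _).1 (key U)).1,
      loc @UniversallyInjective inferInstance fun U => ((UH57.isUnivHomeo_iff' _).1 (key U)).2.1,
      loc @Surjective inferInstance fun U => ((UH57.isUnivHomeo_iff' _).1 (key U)).2.2⟩
  · intro x
    obtain ⟨U, z, rfl⟩ := d.cover.exists_eq x
    let j : Spec (.of (W Γ(X, U.toOpens))) ⟶ d.glued := d.cover.f U
    have : IsOpenImmersion j := inferInstanceAs (IsOpenImmersion (d.cover.f U))
    refine ⟨⟨j ''ᵁ ⊤, (isAffineOpen_top (Spec _)).image_of_isOpenImmersion j⟩,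
      ⟨z, trivial, rfl⟩, ?_⟩
    exact awn_of_ringEquiv ((Scheme.ΓSpecIso (.of (W Γ(X, U.toOpens)))).symm ≪≫
      (j.appIso ⊤).symm).commRingCatIsoToRingEquiv (awn_W _)

end Groth.Agent.AWN93

namespace Groth.Agent.AWN93

theorem isAWNormalization_iff {X' X : Scheme.{u}} (ν : X' ⟶ X) :
    HTop.IsAWNormalization ν ↔ FlatMor.IsUnivHomeo ν ∧ HTop.IsAWN X' := by
  refine ⟨fun h => ⟨h.1, ?_⟩, fun h => isAWNormalization_of_awn h.1 h.2⟩
  obtain ⟨X₀, ν₀, hν₀, hX₀⟩ := exists_awn X
  have h0 := isAWNormalization_of_awn hν₀ hX₀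
  obtain ⟨a, ha, -⟩ := h.2 X₀ ν₀ hν₀
  obtain ⟨b, hb, -⟩ := h0.2 X' ν h.1
  have e1 : a ≫ b = 𝟙 X' :=
    (h.2 X' ν h.1).unique (by rw [Category.assoc, hb, ha]) (Category.id_comp _)
  have e2 : b ≫ a = 𝟙 X₀ :=
    (h0.2 X₀ ν₀ hν₀).unique (by rw [Category.assoc, ha, hb]) (Category.id_comp _)
  have : IsIso b := ⟨a, e2, e1⟩
  exact isAWN_of_isIso b hX₀

theorem uh_id (X : Scheme.{u}) : FlatMor.IsUnivHomeo (𝟙 X) :=
  (UH57.isUnivHomeo_iff' _).2 ⟨inferInstance, inferInstance, inferInstance⟩

end Groth.Agent.AWN93
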