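import Groth.Agent.AWN93.Ring

set_option autoImplicit false
universe u

namespace Groth.Agent.AWN93

variable {A : Type u} [CommRing A]

section Localization
variable (f : A) {B : Type u} [CommRing B] [Algebra A B] [IsLocalization.Away f B]
include f

theorem isUnit_algebraMap_pow (n : ℕ) : IsUnit (algebraMap A B f ^ n) :=
  (IsLocalization.Away.algebraMap_isUnit f).pow n

/-- A polynomial identity in a localization lifts after multiplying by a power of the element. -/
theorem exists_pow_mul_eq_of_map_eq {a b : A} (h : algebraMap A B a = algebraMap A B b) :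
    ∃ N : ℕ, f ^ N * a = f ^ N * b := by
  obtain ⟨⟨c, N, rfl⟩, hc⟩ := IsLocalization.exists_of_eq (M := Submonoid.powers f) h
  exact ⟨N, hc⟩

theorem reduced_away [IsReduced A] : IsReduced B :=
  isReduced_localizationPreserves (Submonoid.powers f) B ‹_›

theorem seminormal_away (h : HTop.IsSeminormalRing A) : HTop.IsSeminormalRing B := by
  have := isReduced_of_seminormal h
  have := reduced_away (B := B) f
  refine seminormal_of_exists fun x y hxy => ?_
  obtain ⟨i, a, ha⟩ := IsLocalization.Away.surj f x
  obtain ⟨j, b, hb⟩ := IsLocalization.Away.surj f y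
  set t := algebraMap A B f with ht
  have hx : x * t ^ (2 * (i + j)) = algebraMap A B (f ^ (i + 2 * j) * a) := by
    rw [map_mul, map_pow, ← ha]; ring
  have hy : y * t ^ (3 * (i + j)) = algebraMap A B (f ^ (3 * i + 2 * j) * b) := by
    rw [map_mul, map_pow, ← hb]; ring
  obtain ⟨N, hN⟩ := exists_pow_mul_eq_of_map_eq f (B := B)
    (a := (f ^ (i + 2 * j) * a) ^ 3) (b := (f ^ (3 * i + 2 * j) * b) ^ 2)
    (by rw [map_pow _ _ 3, map_pow _ _ 2, ← hx, ← hy, mul_pow, mul_pow, hxy]; ring)
  obtain ⟨c, hc1, hc2⟩ := (h (f ^ (2 * N) * (f ^ (i + 2 * j) * a))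
    (f ^ (3 * N) * (f ^ (3 * i + 2 * j) * b)) (by
      linear_combination f ^ (5 * N) * hN)).exists
  obtain ⟨v, hv⟩ := (isUnit_algebraMap_pow (B := B) f (i + j + N)).exists_right_inv
  rw [← ht] at hv
  refine ⟨algebraMap A B c * v, ?_, ?_⟩
  · rw [mul_pow, ← map_pow, ← hc1, map_mul, map_pow, ← hx, ← ht]
    calc x = x * (t ^ (i + j + N) * v) ^ 2 := by rw [hv, one_pow, mul_one]
      _ = _ := by ring
  · rw [mul_pow, ← map_pow, ← hc2, map_mul, map_pow, ← hy, ← ht]
    calc y = y * (t ^ (i + j + N) * v) ^ 3 := by rw [hv, one_pow, mul_one]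
      _ = _ := by ring

theorem awn_away (h : HTop.IsAWNRing A) : HTop.IsAWNRing B := by
  have := isReduced_of_seminormal h.1
  have := reduced_away (B := B) f
  refine awn_of_exists (fun x y hxy => ((seminormal_away f h.1) x y hxy).exists)
    fun p hp x y hxy => ?_
  obtain ⟨q, rfl⟩ : ∃ q, p = q + 2 := ⟨p - 2, by have := hp.two_le; omega⟩
  obtain ⟨i, a, ha⟩ := IsLocalization.Away.surj f x
  obtain ⟨j, b, hb⟩ := IsLocalization.Away.surj f y
  set t := algebraMap A B f with ht
  set p := q + 2 with hp'
  have hx : x * t ^ (p * (i + j)) = algebraMap A B (f ^ ((q + 1) * i + p * j) * a) := by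
    rw [map_mul, map_pow, ← ha, hp']; ring
  have hy : y * t ^ (i + j) = algebraMap A B (f ^ i * b) := by
    rw [map_mul, map_pow, ← hb]; ring
  obtain ⟨N, hN⟩ := exists_pow_mul_eq_of_map_eq f (B := B)
    (a := (p : A) ^ p * (f ^ ((q + 1) * i + p * j) * a)) (b := (f ^ i * b) ^ p)
    (by rw [map_mul _ ((p : A) ^ p), map_pow _ _ p, map_natCast, map_pow _ (f ^ i * b) p, ← hx, ← hy,
      mul_pow, ← hxy, ← pow_mul]; ring)
  obtain ⟨c, hc1, hc2⟩ := (h.2 p hp (f ^ (p * N) * (f ^ ((q + 1) * i + p * j) * a))
    (f ^ N * (f ^ i * b)) (by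
      calc (p : A) ^ p * (f ^ (p * N) * (f ^ ((q + 1) * i + p * j) * a))
          = f ^ ((q + 1) * N) * (f ^ N * ((p : A) ^ p * (f ^ ((q + 1) * i + p * j) * a))) := by
            rw [hp']; ring
        _ = f ^ ((q + 1) * N) * (f ^ N * (f ^ i * b) ^ p) := by rw [hN]
        _ = _ := by rw [mul_pow, hp']; ring)).exists
  obtain ⟨v, hv⟩ := (isUnit_algebraMap_pow (B := B) f (i + j + N)).exists_right_inv
  rw [← ht] at hv
  refine ⟨algebraMap A B c * v, ?_, ?_⟩
  · rw [mul_pow, ← map_pow, ← hc1, map_mul, map_pow, ← hx, ← ht]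
    calc x = x * (t ^ (i + j + N) * v) ^ p := by rw [hv, one_pow, mul_one]
      _ = _ := by ring
  · rw [← mul_assoc, ← map_natCast (algebraMap A B) p, ← map_mul, ← hc2, map_mul, map_pow, ← hy,
      ← ht]
    calc y = y * (t ^ (i + j + N) * v) := by rw [hv, mul_one]
      _ = _ := by ring

end Localization

section Glue

variable {s : Finset A} (hs : Ideal.span (s : Set A) = ⊤)
include hs

theorem isReduced_of_span (h : ∀ f ∈ s, IsReduced (Localization.Away f)) : IsReduced A := by
  refine ⟨fun x hx => Localization.algebraMap_injective_of_span_eq_top (s : Set A) hs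
    (funext fun f => ?_)⟩
  have := h f.1 f.2
  simpa using IsReduced.eq_zero _ (hx.map (algebraMap A (Localization.Away f.1)))

theorem seminormal_of_span (h : ∀ f ∈ s, HTop.IsSeminormalRing (Localization.Away f)) :
    HTop.IsSeminormalRing A := by
  have : IsReduced A := isReduced_of_span hs fun f hf => isReduced_of_seminormal (h f hf)
  refine seminormal_of_exists fun x y hxy => ?_
  choose c hc hc' using fun f : (s : Set A) =>
    (h f.1 f.2 (algebraMap A _ x) (algebraMap A _ y) (by rw [← map_pow, hxy, map_pow])).exists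
  obtain ⟨r, hr, -⟩ := Localization.existsUnique_algebraMap_eq_of_span_eq_top (s : Set A) hs c
    fun a b => eq_of_sq_cube
      (by rw [← map_pow, ← map_pow, ← hc, ← hc, IsLocalization.Away.awayToAwayRight_eq,
        IsLocalization.Away.awayToAwayLeft_eq])
      (by rw [← map_pow, ← map_pow, ← hc', ← hc', IsLocalization.Away.awayToAwayRight_eq,
        IsLocalization.Away.awayToAwayLeft_eq])
  refine ⟨r, Localization.algebraMap_injective_of_span_eq_top (s : Set A) hs (funext fun a => ?_),
    Localization.algebraMap_injective_of_span_eq_top (s : Set A) hs (funext fun a => ?_)⟩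
  · rw [Pi.algebraMap_apply, Pi.algebraMap_apply, map_pow, hr a, ← hc a]
  · rw [Pi.algebraMap_apply, Pi.algebraMap_apply, map_pow, hr a, ← hc' a]

theorem awn_of_span (h : ∀ f ∈ s, HTop.IsAWNRing (Localization.Away f)) : HTop.IsAWNRing A := by
  have hsn := seminormal_of_span hs fun f hf => (h f hf).1
  have := isReduced_of_seminormal hsn
  refine awn_of_exists (fun x y hxy => (hsn x y hxy).exists) fun p hp x y hxy => ?_
  choose c hc hc' using fun f : (s : Set A) =>
    ((h f.1 f.2).2 p hp (algebraMap A _ x) (algebraMap A _ y)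
      (by rw [← map_pow, ← hxy, map_mul, map_pow, map_natCast])).exists
  obtain ⟨r, hr, -⟩ := Localization.existsUnique_algebraMap_eq_of_span_eq_top (s : Set A) hs c
    fun a b => eq_of_prime hp
      (by rw [← map_natCast (IsLocalization.Away.awayToAwayRight (S := Localization.Away a.1)
          (P := Localization.Away (a.1 * b.1)) a.1 b.1) p, ← map_mul, ← hc',
        IsLocalization.Away.awayToAwayRight_eq, map_natCast,
        ← map_natCast (IsLocalization.Away.awayToAwayLeft (S := Localization.Away b.1)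
          (P := Localization.Away (a.1 * b.1)) b.1 a.1) p, ← map_mul, ← hc',
        IsLocalization.Away.awayToAwayLeft_eq])
      (by rw [← map_pow, ← map_pow, ← hc, ← hc, IsLocalization.Away.awayToAwayRight_eq,
        IsLocalization.Away.awayToAwayLeft_eq])
  refine ⟨r, Localization.algebraMap_injective_of_span_eq_top (s : Set A) hs (funext fun a => ?_),
    Localization.algebraMap_injective_of_span_eq_top (s : Set A) hs (funext fun a => ?_)⟩
  · rw [Pi.algebraMap_apply, Pi.algebraMap_apply, map_pow, hr a, ← hc a]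
  · rw [Pi.algebraMap_apply, Pi.algebraMap_apply, map_mul, map_natCast, hr a, ← hc' a]

end Glue

end Groth.Agent.AWN93
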