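import Groth.Agent.AWN93.Scheme
import Groth.Agent.SchBasics.Reduced

set_option autoImplicit false
universe u

open CategoryTheory CategoryTheory.Limits AlgebraicGeometry TopologicalSpace

namespace Groth.Agent.AWN93

variable {X Y Z : Scheme.{u}}

instance : MorphismProperty.IsStableUnderBaseChange FlatMor.IsUnivHomeo.{u} :=
  inferInstanceAs (MorphismProperty.IsStableUnderBaseChange (MorphismProperty.universally _))

instance : MorphismProperty.RespectsIso FlatMor.IsUnivHomeo.{u} :=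
  inferInstanceAs (MorphismProperty.RespectsIso (MorphismProperty.universally _))

theorem uh_isHomeomorph {p : Z ⟶ X} (hp : FlatMor.IsUnivHomeo p) : IsHomeomorph p :=
  hp (𝟙 Z) (𝟙 X) p (IsPullback.of_id_snd (f := p))

theorem uh_isAffineHom {p : Z ⟶ X} (hp : FlatMor.IsUnivHomeo p) : IsAffineHom p :=
  isAffineHom_of_isInducing p (uh_isHomeomorph hp).homeomorph.isInducing
    (by
      rw [Set.range_eq_univ.2 (uh_isHomeomorph hp).surjective]
      exact isClosed_univ)

theorem uh_of_comp_eq {W : Scheme.{u}} {h : W ⟶ Z} {p : Z ⟶ X} (hp : FlatMor.IsUnivHomeo p)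
    (hhp : FlatMor.IsUnivHomeo (h ≫ p)) : FlatMor.IsUnivHomeo h := by
  have := uh_isAffineHom hp
  have hsurj := uh_isHomeomorph hhp
  have hp' := uh_isHomeomorph hp
  rw [UH57.isUnivHomeo_iff'] at hhp ⊢
  obtain ⟨h1, h2, h3⟩ := hhp
  refine ⟨MorphismProperty.of_postcomp (W := @UniversallyClosed) (W' := @IsSeparated) h p
    inferInstance h1, ((tfae_universallyInjective h).out 1 0 rfl rfl).1 fun K _ g₁ g₂ e => ?_,
    ⟨fun z => ?_⟩⟩
  · refine ((tfae_universallyInjective (h ≫ p)).out 0 1 rfl rfl).1 h2 K ?_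
    show g₁ ≫ h ≫ p = g₂ ≫ h ≫ p
    rw [← Category.assoc, show g₁ ≫ h = g₂ ≫ h from e, Category.assoc]
  obtain ⟨w, hw⟩ := hsurj.surjective (p z)
  exact ⟨w, hp'.injective hw⟩

theorem arrowIso_app {p : Z ⟶ X} [IsAffineHom p] (U : X.affineOpens) :
    Nonempty (Arrow.mk (p ∣_ U.1) ≅ Arrow.mk (Spec.map (p.app U.1))) := by
  have hU : IsAffineOpen U.1 := U.2
  refine ⟨Arrow.isoMk (hU.preimage p).isoSpec hU.isoSpec ?_⟩
  show (hU.preimage p).isoSpec.hom ≫ Spec.map (p.app U.1) = (p ∣_ U.1) ≫ hU.isoSpec.hom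
  have : IsOpenImmersion hU.fromSpec := hU.isOpenImmersion_fromSpec
  rw [← cancel_mono hU.fromSpec, Category.assoc, Category.assoc, p.app_eq_appLE,
    hU.SpecMap_appLE_fromSpec p (hU.preimage p) le_rfl, ← Category.assoc,
    IsAffineOpen.isoSpec_hom, IsAffineOpen.toSpecΓ_fromSpec, IsAffineOpen.isoSpec_hom,
    IsAffineOpen.toSpecΓ_fromSpec, morphismRestrict_ι]

theorem uh_app {p : Z ⟶ X} (hp : FlatMor.IsUnivHomeo p) (U : X.affineOpens) :
    UH (p.app U.1).hom := by
  have := uh_isAffineHom hp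
  exact (MorphismProperty.arrow_mk_iso_iff FlatMor.IsUnivHomeo.{u} (arrowIso_app U).some).1
    (MorphismProperty.of_isPullback (isPullback_morphismRestrict p U.1).flip hp)

theorem isIso_of_uh_of_awn {p : Z ⟶ X} (hp : FlatMor.IsUnivHomeo p) (hX : HTop.IsAWN X)
    [AlgebraicGeometry.IsReduced Z] : IsIso p := by
  have := uh_isAffineHom hp
  refine (IsZariskiLocalAtTarget.iff_of_iSup_eq_top (P := MorphismProperty.isomorphisms Scheme.{u})
    _ (iSup_affineOpens_eq_top X)).2 fun U => ?_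
  have hb := (uh_app hp U).bijective ((isAWN_iff X).1 hX U)
  have : IsIso (p.app U.1) := (ConcreteCategory.isIso_iff_bijective _).2 hb
  exact (MorphismProperty.arrow_mk_iso_iff (MorphismProperty.isomorphisms Scheme.{u})
    (arrowIso_app U).some).2 (show IsIso (Spec.map (p.app U.1)) from inferInstance)

theorem existsUnique_section {p : Z ⟶ X} (hp : FlatMor.IsUnivHomeo p) (hX : HTop.IsAWN X) :
    ∃! s : X ⟶ Z, s ≫ p = 𝟙 X := by
  have := isAWN_isReduced hX
  let I := Scheme.IdealSheafData.vanishingIdeal (X := Z) ⊤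
  have := SchBasics.isReduced_vanishingIdeal_subscheme (Y := Z) ⊤
  have hr : Set.range I.subschemeι = Set.univ :=
    (SchBasics.range_vanishingIdeal_subschemeι (Y := Z) ⊤).trans rfl
  have hι : FlatMor.IsUnivHomeo I.subschemeι :=
    (UH57.isUnivHomeo_iff' _).2 ⟨inferInstance, inferInstance, ⟨Set.range_eq_univ.1 hr⟩⟩
  obtain ⟨hc1, hc2, hc3⟩ := (UH57.isUnivHomeo_iff' _).1 hp
  obtain ⟨hd1, hd2, hd3⟩ := (UH57.isUnivHomeo_iff' _).1 hι
  have : IsIso (I.subschemeι ≫ p) :=
    isIso_of_uh_of_awn ((UH57.isUnivHomeo_iff' _).2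
      ⟨inferInstance, MorphismProperty.comp_mem _ _ _ hd2 hc2, inferInstance⟩) hX
  refine ⟨inv (I.subschemeι ≫ p) ≫ I.subschemeι, by simp [Category.assoc], fun s hs => ?_⟩
  have hker := SchBasics.ker_le_ker_of_range_subset s I.subschemeι (hr ▸ Set.subset_univ _)
  have h1 := IsClosedImmersion.lift_fac I.subschemeι s hker
  rw [← h1]
  have : IsClosedImmersion.lift I.subschemeι s hker = inv (I.subschemeι ≫ p) := by
    rw [← cancel_mono (I.subschemeι ≫ p), IsIso.inv_hom_id, ← Category.assoc, h1, hs]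
  rw [this]

/-- A universal homeomorphism from an AWN scheme is an absolute weak normalization. -/
theorem isAWNormalization_of_awn {X' : Scheme.{u}} {ν : X' ⟶ X} (hν : FlatMor.IsUnivHomeo ν)
    (hX' : HTop.IsAWN X') : HTop.IsAWNormalization ν := by
  refine ⟨hν, fun Y π hπ => ?_⟩
  obtain ⟨s, hs, hu⟩ := existsUnique_section (p := pullback.fst ν π)
    (MorphismProperty.pullback_fst _ _ hπ) hX'
  refine ⟨s ≫ pullback.snd ν π, by
    show (s ≫ pullback.snd ν π) ≫ π = ν
    rw [Category.assoc, ← pullback.condition, ← Category.assoc, hs, Category.id_comp],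
    fun h hh => ?_⟩
  have := hu (pullback.lift (𝟙 X') h (by rw [Category.id_comp, hh])) (pullback.lift_fst _ _ _)
  rw [← this, pullback.lift_snd]

theorem isAWN_of_isIso (h : Y ⟶ X) [IsIso h] (hY : HTop.IsAWN Y) : HTop.IsAWN X := by
  intro x
  obtain ⟨y, rfl⟩ := h.surjective x
  obtain ⟨U, hy, hU⟩ := hY y
  refine ⟨⟨h ''ᵁ U.1, U.2.image_of_isOpenImmersion h⟩, ⟨y, hy, rfl⟩, ?_⟩
  exact awn_of_ringEquiv (h.appIso U.1).symm.commRingCatIsoToRingEquiv hU

end Groth.Agent.AWN93
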