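import Groth.Prelude.Def_HTop2
import Groth.Agent.UH57.Cl
import Mathlib

set_option autoImplicit false
universe u

open CategoryTheory AlgebraicGeometry
open Groth.Agent.UH57

namespace Groth.Agent.AWN93

section Elementary
variable {R : Type u} [CommRing R]

theorem eq_of_sq_cube [IsReduced R] {u v : R} (h2 : u ^ 2 = v ^ 2) (h3 : u ^ 3 = v ^ 3) : u = v := by
  have : (u - v) ^ 4 = 0 := by
    rw [show (u - v) ^ 4 = (u ^ 2) ^ 2 - 4 * (u ^ 3) * v + 6 * (u ^ 2) * v ^ 2 - 4 * u * v ^ 3 +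
      v ^ 4 by ring]
    rw [show 4 * u * v ^ 3 = 4 * u * u ^ 3 by rw [h3]]
    rw [show 4 * u * u ^ 3 = 4 * (u ^ 2) ^ 2 by ring, h2, h3]
    ring
  exact sub_eq_zero.1 (IsReduced.eq_zero _ ⟨4, this⟩)

theorem eq_of_prime [IsReduced R] {p : ℕ} (hp : p.Prime) {u v : R}
    (h1 : (p : R) * u = (p : R) * v) (h2 : u ^ p = v ^ p) : u = v := by
  obtain ⟨r, hr⟩ := (Commute.all (u - v) v).exists_add_pow_prime_eq hp
  have h0 : (p : R) * (u - v) = 0 := by rw [mul_sub, h1, sub_self]
  rw [sub_add_cancel, h0, zero_mul, zero_mul, add_zero, h2] at hr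
  exact sub_eq_zero.1 (IsReduced.eq_zero _ ⟨p, by linear_combination -hr⟩)

theorem isReduced_of_seminormal (h : HTop.IsSeminormalRing R) : IsReduced R :=
  (isReduced_iff_pow_one_lt 2 one_lt_two).2 fun x hx =>
    (h 0 0 (by simp)).unique ⟨hx.symm, by rw [pow_succ, hx, zero_mul]⟩ ⟨by simp, by simp⟩

theorem seminormal_of_exists [IsReduced R]
    (h : ∀ x y : R, x ^ 3 = y ^ 2 → ∃ a, x = a ^ 2 ∧ y = a ^ 3) : HTop.IsSeminormalRing R :=
  fun x y hxy => existsUnique_of_exists_of_unique (h x y hxy)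
    fun _ _ h1 h2 => eq_of_sq_cube (h1.1.symm.trans h2.1) (h1.2.symm.trans h2.2)

theorem awn_of_exists [IsReduced R]
    (h : ∀ x y : R, x ^ 3 = y ^ 2 → ∃ a, x = a ^ 2 ∧ y = a ^ 3)
    (h' : ∀ p : ℕ, p.Prime → ∀ x y : R, (p : R) ^ p * x = y ^ p →
      ∃ a, x = a ^ p ∧ y = (p : R) * a) : HTop.IsAWNRing R :=
  ⟨seminormal_of_exists h, fun p hp x y hxy => existsUnique_of_exists_of_unique (h' p hp x y hxy)
    fun _ _ h1 h2 => eq_of_prime hp (h1.2.symm.trans h2.2) (h1.1.symm.trans h2.1)⟩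

theorem awn_pi {ι : Type u} {K : ι → Type u} [∀ i, CommRing (K i)]
    (h : ∀ i, HTop.IsAWNRing (K i)) : HTop.IsAWNRing (∀ i, K i) := by
  have : ∀ i, IsReduced (K i) := fun i => isReduced_of_seminormal (h i).1
  refine awn_of_exists (fun x y hxy => ?_) fun p hp x y hxy => ?_
  · choose a ha using fun i => ((h i).1 (x i) (y i) (congrFun hxy i)).exists
    exact ⟨a, funext fun i => (ha i).1, funext fun i => (ha i).2⟩
  · choose a ha using fun i => ((h i).2 p hp (x i) (y i) (congrFun hxy i)).exists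
    exact ⟨a, funext fun i => (ha i).1, funext fun i => (ha i).2⟩

theorem awn_algClosed (K : Type u) [Field K] [IsAlgClosed K] : HTop.IsAWNRing K := by
  refine awn_of_exists (fun x y hxy => ?_) fun p hp x y hxy => ?_
  · by_cases hx : x = 0
    · subst hx
      exact ⟨0, by simp, by simpa using hxy.symm⟩
    · have hy : y ≠ 0 := fun hy => hx (by simpa [hy] using hxy)
      refine ⟨y / x, ?_, ?_⟩
      · rw [div_pow, ← hxy, eq_div_iff (pow_ne_zero _ hx)]; ring
      · rw [div_pow, hxy, eq_div_iff (pow_ne_zero _ hy)]; ring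
  · by_cases h0 : (p : K) = 0
    · rw [h0, zero_pow hp.ne_zero, zero_mul] at hxy
      obtain ⟨a, ha⟩ := IsAlgClosed.exists_pow_nat_eq x hp.pos
      exact ⟨a, ha.symm, by rw [h0, zero_mul, (pow_eq_zero_iff hp.ne_zero).1 hxy.symm]⟩
    · refine ⟨y / p, ?_, (mul_div_cancel₀ y h0).symm⟩
      rw [div_pow, ← hxy, mul_div_cancel_left₀ _ (pow_ne_zero _ h0)]

theorem awn_of_ringEquiv {S : Type u} [CommRing S] (e : R ≃+* S) (h : HTop.IsAWNRing R) :
    HTop.IsAWNRing S := by
  have := isReduced_of_seminormal h.1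
  have : IsReduced S := isReduced_of_injective e.symm e.symm.injective
  refine awn_of_exists (fun x y hxy => ?_) fun p hp x y hxy => ?_
  · obtain ⟨a, h1, h2⟩ := (h.1 (e.symm x) (e.symm y) (by rw [← map_pow, hxy, map_pow])).exists
    exact ⟨e a, by rw [← map_pow, ← h1, e.apply_symm_apply],
      by rw [← map_pow, ← h2, e.apply_symm_apply]⟩
  · obtain ⟨a, h1, h2⟩ := (h.2 p hp (e.symm x) (e.symm y)
      (by rw [← map_pow, ← hxy, map_mul, map_pow, map_natCast])).exists
    refine ⟨e a, by rw [← map_pow, ← h1, e.apply_symm_apply], ?_⟩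
    rw [← map_natCast e p, ← map_mul, ← h2, e.apply_symm_apply]

theorem seminormal_of_ringEquiv {S : Type u} [CommRing S] (e : R ≃+* S)
    (h : HTop.IsSeminormalRing R) : HTop.IsSeminormalRing S := by
  have := isReduced_of_seminormal h
  have : IsReduced S := isReduced_of_injective e.symm e.symm.injective
  refine seminormal_of_exists fun x y hxy => ?_
  obtain ⟨a, h1, h2⟩ := (h (e.symm x) (e.symm y) (by rw [← map_pow, hxy, map_pow])).exists
  exact ⟨e a, by rw [← map_pow, ← h1, e.apply_symm_apply],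
    by rw [← map_pow, ← h2, e.apply_symm_apply]⟩

end Elementary

theorem InCl.comp {hp : Prop} {A A' B B' : Type u} [CommRing A] [CommRing A'] [CommRing B]
    [CommRing B'] [Algebra A B] [Algebra A' B'] (g : A →+* A') (χ : B →+* B')
    (hc : χ.comp (algebraMap A B) = (algebraMap A' B').comp g) {b : B} (h : InCl hp A b) :
    InCl hp A' (χ b) := by
  induction h with
  | alg a => rw [show χ (algebraMap A B a) = algebraMap A' B' (g a) from congr($hc a)]; exact .alg _
  | add _ _ ih1 ih2 => rw [map_add]; exact .add ih1 ih2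
  | mul _ _ ih1 ih2 => rw [map_mul]; exact .mul ih1 ih2
  | sq _ _ ih1 ih2 => rw [map_pow] at ih1 ih2; exact .sq ih1 ih2
  | pr ℓ h0 hℓ _ _ ih1 ih2 =>
    rw [map_mul, map_natCast] at ih1; rw [map_pow] at ih2; exact .pr ℓ h0 hℓ ih1 ih2

theorem awn_cl {A B : Type u} [CommRing A] [CommRing B] [Algebra A B] (hB : HTop.IsAWNRing B) :
    HTop.IsAWNRing (cl True A B) := by
  have := isReduced_of_seminormal hB.1
  have : IsReduced (cl True A B) :=
    isReduced_of_injective (cl True A B).val Subtype.val_injective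
  refine awn_of_exists (fun x y hxy => ?_) fun p hp x y hxy => ?_
  · obtain ⟨a, h1, h2⟩ := (hB.1 x.1 y.1 (by simpa using congrArg Subtype.val hxy)).exists
    exact ⟨⟨a, .sq (h1 ▸ x.2) (h2 ▸ y.2)⟩, Subtype.ext (by simpa using h1),
      Subtype.ext (by simpa using h2)⟩
  · obtain ⟨a, h1, h2⟩ := (hB.2 p hp x.1 y.1 (by simpa using congrArg Subtype.val hxy)).exists
    exact ⟨⟨a, .pr p trivial hp (h2 ▸ y.2) (h1 ▸ x.2)⟩, Subtype.ext (by simpa using h1),
      Subtype.ext (by simpa using h2)⟩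

/-- universal homeomorphism on spectra -/
abbrev UH {A B : Type u} [CommRing A] [CommRing B] (φ : A →+* B) : Prop :=
  FlatMor.IsUnivHomeo (Spec.map (CommRingCat.ofHom φ))

theorem exists_lift_field {A C L : Type u} [CommRing A] [CommRing C] [Algebra A C]
    [Algebra.IsIntegral A C] (hker : RingHom.ker (algebraMap A C) ≤ nilradical A) [Field L]
    [IsAlgClosed L] (h : A →+* L) : ∃ χ : C →+* L, χ.comp (algebraMap A C) = h := by
  have hprime : (RingHom.ker h).IsPrime := RingHom.ker_isPrime h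
  obtain ⟨q, -, hq, e⟩ := Ideal.exists_ideal_over_prime_of_isIntegral (S := C) (RingHom.ker h) ⊥
    (hker.trans (nilradical_le_prime _))
  let R := A ⧸ RingHom.ker h
  let g : R →+* C ⧸ q := Ideal.quotientMap q (algebraMap A C) e.ge
  let : Algebra R (C ⧸ q) := g.toAlgebra
  let : Algebra R L := (RingHom.kerLift h).toAlgebra
  have : IsScalarTower A R (C ⧸ q) := .of_algebraMap_eq fun a => rfl
  have : Algebra.IsIntegral R (C ⧸ q) := ⟨fun x => by
    obtain ⟨c, rfl⟩ := Ideal.Quotient.mk_surjective x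
    exact (((Algebra.IsIntegral.isIntegral (R := A) c).map (Ideal.Quotient.mkₐ A q)).tower_top :
      IsIntegral R (Ideal.Quotient.mk q c))⟩
  have : FaithfulSMul R (C ⧸ q) := (faithfulSMul_iff_algebraMap_injective R (C ⧸ q)).2
    (Ideal.quotientMap_injective' e.le)
  have : Module.IsTorsionFree R (C ⧸ q) :=
    FaithfulSMul.to_isTorsionFree R (C ⧸ q)
  have : FaithfulSMul R L := (faithfulSMul_iff_algebraMap_injective R L).2
    (RingHom.kerLift_injective h)
  have : Module.IsTorsionFree R L := FaithfulSMul.to_isTorsionFree R L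
  let χ : C ⧸ q →ₐ[R] L := IsAlgClosed.lift
  refine ⟨χ.toRingHom.comp (Ideal.Quotient.mk q), RingHom.ext fun a => ?_⟩
  exact χ.commutes (Ideal.Quotient.mk (RingHom.ker h) a)

theorem eq_of_forall_field {C R : Type u} [CommRing C] [CommRing R] [IsReduced R]
    {χ₁ χ₂ : C →+* R}
    (h : ∀ (L : Type u) [Field L] (g : R →+* L), g.comp χ₁ = g.comp χ₂) : χ₁ = χ₂ := by
  ext c
  rw [← sub_eq_zero]
  refine IsReduced.eq_zero _ ((mem_nilradical).1 ?_)
  rw [nilradical_eq_sInf, Ideal.mem_sInf]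
  intro p (hp : p.IsPrime)
  rw [← Ideal.algebraMap_residueField_eq_zero, map_sub, sub_eq_zero]
  exact congr($(h p.ResidueField (algebraMap R _)) c)

/-- Ring maps out of a radicial extension into reduced rings are determined on the base. -/
theorem UH.hom_ext {A C R : Type u} [CommRing A] [CommRing C] [CommRing R] [IsReduced R]
    {ψ : A →+* C} (hψ : UH ψ) {χ₁ χ₂ : C →+* R} (h : χ₁.comp ψ = χ₂.comp ψ) : χ₁ = χ₂ := by
  algebraize [ψ]
  obtain ⟨-, hri, -⟩ := isUnivHomeo_iff.1 hψ
  refine eq_of_forall_field fun L _ g => hri.hInj L _ _ ?_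
  rw [RingHom.comp_assoc, RingHom.comp_assoc]
  exact congrArg g.comp h

section Construction
variable (A : Type u) [CommRing A]

/-- the product of the algebraic closures of the residue fields -/
abbrev K : Type u := ∀ p : PrimeSpectrum A, AlgebraicClosure p.asIdeal.ResidueField

/-- the absolute weak normalization -/
abbrev W : Type u := cl True A (K A)

theorem awn_W : HTop.IsAWNRing (W A) := awn_cl (awn_pi fun _ => awn_algClosed _)

theorem ker_W : RingHom.ker (algebraMap A (W A)) ≤ nilradical A := fun a ha => by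
  rw [nilradical_eq_sInf, Ideal.mem_sInf]
  intro p (hp : p.IsPrime)
  rw [← Ideal.algebraMap_residueField_eq_zero]
  have h1 : algebraMap A (K A) a = 0 := congrArg Subtype.val (RingHom.mem_ker.1 ha)
  have h2 := congrFun h1 ⟨p, hp⟩
  rw [Pi.algebraMap_apply, IsScalarTower.algebraMap_apply A p.ResidueField] at h2
  exact (algebraMap p.ResidueField (AlgebraicClosure p.ResidueField)).injective
    (h2.trans (map_zero _).symm)

theorem uh_W : UH (algebraMap A (W A)) := by
  have hall := InCl.of_cl (hp := True) (A := A) (B := K A) (C := cl True A (K A)) rfl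
  exact isUnivHomeo_iff.2 ⟨integral_of_all hall, ri_of_all hall, ker_W A⟩

variable {A}

theorem existsUnique_hom_W {A' C : Type u} [CommRing A'] [CommRing C] {ψ : A →+* C} (hψ : UH ψ)
    (g : A →+* A') : ∃! χ : C →+* W A', χ.comp ψ = (algebraMap A' (W A')).comp g := by
  have := isReduced_of_seminormal (awn_W A').1
  refine existsUnique_of_exists_of_unique ?_ fun _ _ h1 h2 => hψ.hom_ext (h1.trans h2.symm)
  algebraize [ψ]
  obtain ⟨hi, hri, hker⟩ := isUnivHomeo_iff.1 hψ
  choose χ hχ using fun p : PrimeSpectrum A' => exists_lift_field (C := C) hker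
    ((algebraMap A' (AlgebraicClosure p.asIdeal.ResidueField)).comp g)
  have hc : (RingHom.pi χ).comp (algebraMap A C) = (algebraMap A' (K A')).comp g :=
    RingHom.ext fun a => funext fun p => congr($(hχ p) a)
  refine ⟨RingHom.codRestrict (RingHom.pi χ) (cl True A' (K A')) fun c =>
    InCl.comp g (RingHom.pi χ) hc (all_of_ri (.inl trivial) hi hri c), ?_⟩
  exact RingHom.ext fun a => Subtype.ext congr($hc a)

theorem isRingAWN_W (A : Type u) [CommRing A] : HTop.IsRingAWN (algebraMap A (W A)) :=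
  ⟨uh_W A, fun C _ ψ hψ => by simpa using existsUnique_hom_W (A' := A) hψ (RingHom.id A)⟩

end Construction

theorem UH.of_comp {A C B : Type u} [CommRing A] [CommRing C] [CommRing B] {ψ : A →+* C}
    {φ : A →+* B} {χ : C →+* B} (hψ : UH ψ) (hφ : UH φ) (h : χ.comp ψ = φ) : UH χ := by
  algebraize [ψ, φ, χ]
  have : IsScalarTower A C B := .of_algebraMap_eq' h.symm
  obtain ⟨hi, hri, hker⟩ := isUnivHomeo_iff.1 hφ
  obtain ⟨hiC, hriC, -⟩ := isUnivHomeo_iff.1 hψ
  refine isUnivHomeo_iff.2 ⟨Algebra.IsIntegral.tower_top A, hInj_iff.1 fun L _ g₁ g₂ e =>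
    hri.hInj L g₁ g₂ ?_, fun c hc => ?_⟩
  · rw [IsScalarTower.algebraMap_eq A C B, ← RingHom.comp_assoc, e, RingHom.comp_assoc]
  · rw [nilradical_eq_sInf, Ideal.mem_sInf]
    intro p (hp : p.IsPrime)
    rw [← Ideal.algebraMap_residueField_eq_zero]
    let j := algebraMap p.ResidueField (AlgebraicClosure p.ResidueField)
    let g : C →+* AlgebraicClosure p.ResidueField := j.comp (algebraMap C p.ResidueField)
    obtain ⟨g', hg'⟩ := exists_lift_field (C := B) hker (g.comp (algebraMap A C))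
    have he : g'.comp (algebraMap C B) = g := hriC.hInj _ _ _ (by
      rw [RingHom.comp_assoc, ← IsScalarTower.algebraMap_eq, hg'])
    refine j.injective ?_
    rw [map_zero, show j (algebraMap C p.ResidueField c) = g c from rfl, ← he, RingHom.comp_apply,
      RingHom.mem_ker.1 hc, map_zero]

theorem UH.bijective {B C : Type u} [CommRing B] [CommRing C] [IsReduced C] {ψ : B →+* C}
    (hψ : UH ψ) (hB : HTop.IsAWNRing B) : Function.Bijective ψ := by
  algebraize [ψ]
  obtain ⟨hi, hri, hker⟩ := isUnivHomeo_iff.1 hψ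
  have := isReduced_of_seminormal hB.1
  have hinj : Function.Injective ψ := (RingHom.injective_iff_ker_eq_bot ψ).2
    (le_bot_iff.1 (hker.trans (nilradical_eq_zero B).le))
  refine ⟨hinj, fun c => ?_⟩
  induction all_of_ri (hp := True) (.inl trivial) hi hri c with
  | alg a => exact ⟨a, rfl⟩
  | add _ _ ih1 ih2 =>
    obtain ⟨a, rfl⟩ := ih1; obtain ⟨b, rfl⟩ := ih2; exact ⟨a + b, map_add ψ a b⟩
  | mul _ _ ih1 ih2 =>
    obtain ⟨a, rfl⟩ := ih1; obtain ⟨b, rfl⟩ := ih2; exact ⟨a * b, map_mul ψ a b⟩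
  | @sq c _ _ ih1 ih2 =>
    obtain ⟨x, hx⟩ := ih1
    obtain ⟨y, hy⟩ := ih2
    obtain ⟨a, ha1, ha2⟩ := (hB.1 x y (hinj (by rw [map_pow, map_pow, hx, hy]; ring))).exists
    exact ⟨a, eq_of_sq_cube (by rw [← map_pow, ← ha1, hx]) (by rw [← map_pow, ← ha2, hy])⟩
  | @pr c ℓ _ hℓ _ _ ih1 ih2 =>
    obtain ⟨y, hy⟩ := ih1
    obtain ⟨x, hx⟩ := ih2
    obtain ⟨a, ha1, ha2⟩ := (hB.2 ℓ hℓ x y (hinj (by
      rw [map_mul, map_pow, map_pow, map_natCast, hx, hy, mul_pow]))).exists
    exact ⟨a, eq_of_prime hℓ (by rw [← hy, ha2, map_mul, map_natCast])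
      (by rw [← map_pow, ← ha1, hx])⟩

/-- An absolute weak normalization is the same as a universal homeomorphism to an AWN ring. -/
theorem isRingAWN_iff {A B : Type u} [CommRing A] [CommRing B] (φ : A →+* B) :
    HTop.IsRingAWN φ ↔ UH φ ∧ HTop.IsAWNRing B := by
  have hW := isRingAWN_W A
  constructor
  · intro h
    obtain ⟨χ, hχ, -⟩ := h.2 (W A) _ hW.1
    obtain ⟨χ', hχ', -⟩ := hW.2 B φ h.1
    have e1 : χ'.comp χ = RingHom.id _ := (hW.2 (W A) _ hW.1).unique
      (by rw [RingHom.comp_assoc, hχ, hχ']) (RingHom.id_comp _)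
    have e2 : χ.comp χ' = RingHom.id _ := (h.2 B φ h.1).unique
      (by rw [RingHom.comp_assoc, hχ', hχ]) (RingHom.id_comp _)
    exact ⟨h.1, awn_of_ringEquiv (RingEquiv.ofRingHom χ χ' e2 e1) (awn_W A)⟩
  · rintro ⟨h, hB⟩
    have := isReduced_of_seminormal hB.1
    have := isReduced_of_seminormal (awn_W A).1
    obtain ⟨χ, hχ, -⟩ := hW.2 B φ h
    have hb : Function.Bijective χ := (h.of_comp hW.1 hχ).bijective hB
    let e := RingEquiv.ofBijective χ hb
    refine ⟨h, fun C _ ψ hψ => ?_⟩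
    obtain ⟨η, hη, -⟩ := hW.2 C ψ hψ
    refine ⟨e.symm.toRingHom.comp η, RingHom.ext fun a => e.injective ?_,
      fun η' hη' => UH.hom_ext hψ (hη'.trans (RingHom.ext fun a => e.injective ?_).symm)⟩
    · show e (e.symm (η (ψ a))) = χ (φ a)
      rw [e.apply_symm_apply, show η (ψ a) = algebraMap A (W A) a from congr($hη a)]
      exact (congr($hχ a)).symm
    · show e (e.symm (η (ψ a))) = χ (φ a)
      rw [e.apply_symm_apply, show η (ψ a) = algebraMap A (W A) a from congr($hη a)]
      exact (congr($hχ a)).symm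

end Groth.Agent.AWN93
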