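import Groth.Agent.AWN93.Local

set_option autoImplicit false
universe u

open CategoryTheory AlgebraicGeometry TopologicalSpace

namespace Groth.Agent.AWN93

theorem affineLocal {X : Scheme.{u}} (P : ∀ (R : Type u) [CommRing R], Prop)
    (hequiv : ∀ (R S : Type u) [CommRing R] [CommRing S], (R ≃+* S) → P R → P S)
    (haway : ∀ (A : Type u) [CommRing A] (f : A), P A → P (Localization.Away f))
    (hspan : ∀ (A : Type u) [CommRing A] (s : Finset A), Ideal.span (s : Set A) = ⊤ →
      (∀ f ∈ s, P (Localization.Away f)) → P A)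
    (h : ∀ x : X, ∃ U : X.affineOpens, x ∈ (U : X.Opens) ∧ P Γ(X, U)) (V : X.affineOpens) :
    P Γ(X, V) := by
  choose U hxU hU using h
  refine of_affine_open_cover (P := fun V : X.affineOpens => P Γ(X, V)) U
    (eq_top_iff.2 fun x _ => Opens.mem_iSup.2 ⟨x, hxU x⟩) V (fun V f hV => ?_)
    (fun V s hs hcov => ?_) hU
  · have : IsLocalization.Away f Γ(X, X.basicOpen f) := V.2.isLocalization_basicOpen f
    exact hequiv _ _ (IsLocalization.algEquiv (Submonoid.powers f) (Localization.Away f)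
      Γ(X, X.basicOpen f)).toRingEquiv (haway _ f hV)
  · refine hspan _ s hs fun f hf => ?_
    have : IsLocalization.Away f Γ(X, X.basicOpen f) := V.2.isLocalization_basicOpen f
    exact hequiv _ _ (IsLocalization.algEquiv (Submonoid.powers f) Γ(X, X.basicOpen f)
      (Localization.Away f)).toRingEquiv (hcov ⟨f, hf⟩)

theorem isAWN_iff (X : Scheme.{u}) : HTop.IsAWN X ↔ ∀ U : X.affineOpens, HTop.IsAWNRing Γ(X, U) := by
  refine ⟨fun h => affineLocal (fun R _ => HTop.IsAWNRing R) (fun _ _ _ _ e => awn_of_ringEquiv e)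
    (fun A _ f => awn_away f) (fun A _ s hs => awn_of_span hs) h, fun h x => ?_⟩
  obtain ⟨U, hU, hx, -⟩ := Opens.isBasis_iff_nbhd.1 X.isBasis_affineOpens (Opens.mem_top x)
  exact ⟨⟨U, hU⟩, hx, h _⟩

theorem isSeminormal_iff (X : Scheme.{u}) :
    HTop.IsSeminormal X ↔ ∀ U : X.affineOpens, HTop.IsSeminormalRing Γ(X, U) := by
  refine ⟨fun h => affineLocal (fun R _ => HTop.IsSeminormalRing R)
    (fun _ _ _ _ e => seminormal_of_ringEquiv e)
    (fun A _ f => seminormal_away f) (fun A _ s hs => seminormal_of_span hs) h, fun h x => ?_⟩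
  obtain ⟨U, hU, hx, -⟩ := Opens.isBasis_iff_nbhd.1 X.isBasis_affineOpens (Opens.mem_top x)
  exact ⟨⟨U, hU⟩, hx, h _⟩

theorem isReduced_of_isSeminormal {X : Scheme.{u}} (h : HTop.IsSeminormal X) :
    AlgebraicGeometry.IsReduced X := by
  have : ∀ x : X, _root_.IsReduced (X.presheaf.stalk x) := fun x => by
    obtain ⟨U, hx, hU⟩ := h x
    have := isReduced_of_seminormal hU
    let := X.presheaf.algebra_section_stalk ⟨x, hx⟩
    have := U.2.isLocalization_stalk ⟨x, hx⟩
    exact isReduced_localizationPreserves (U.2.primeIdealOf ⟨x, hx⟩).asIdeal.primeCompl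
      (X.presheaf.stalk x) ‹_›
  exact isReduced_of_isReduced_stalk X

theorem isAWN_isReduced {X : Scheme.{u}} (h : HTop.IsAWN X) : AlgebraicGeometry.IsReduced X :=
  isReduced_of_isSeminormal fun x => let ⟨U, hx, hU⟩ := h x; ⟨U, hx, hU.1⟩

end Groth.Agent.AWN93
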